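import Mathlib
import Cfsg.Agent.Lib.Forms.Witt

/-!
# Self-adjoint maps with square zero: frames and conjugacy

For a non-degenerate form `B` and a self-adjoint `N` with `N² = 0` (so `1 + N` is an isometric
involution in characteristic two), a frame is a family `x` whose images under `N` form a basis of
the range, whose members are pairwise orthogonal. Two frames with the same data give conjugate maps.
-/

set_option autoImplicit false
set_option linter.unusedSectionVars false

namespace Cfsg.Agent.Forms.Invol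

open Module Cfsg.Agent.Forms.Witt

variable {F V : Type*} [Field F] [AddCommGroup V] [Module F V] [FiniteDimensional F V]
variable {σ : F →+* F}

/-- `N` is self-adjoint with square zero. -/
structure Nil (B : V →ₛₗ[σ] V →ₗ[F] F) (N : V →ₗ[F] V) : Prop where
  adj : ∀ u v, B (N u) v = B u (N v)
  sq : ∀ u, N (N u) = 0

/-- A frame of `N` with data `β`. -/
structure IsFrame (B : V →ₛₗ[σ] V →ₗ[F] F) (N : V →ₗ[F] V) {r : ℕ}
    (β : Matrix (Fin r) (Fin r) F) (x : Fin r → V) : Prop where
  rank : finrank F (LinearMap.range N) = r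
  det : β.det ≠ 0
  gram : ∀ i j, B (N (x i)) (x j) = β i j
  iso : ∀ i j, B (x i) (x j) = 0

/-- the linear map of a frame -/
noncomputable def lift {r : ℕ} (N : V →ₗ[F] V) (x : Fin r → V) :
    ((Fin r → F) × (Fin r → F)) →ₗ[F] V :=
  (Fintype.linearCombination F x).coprod (Fintype.linearCombination F (N ∘ x))

theorem lift_apply {r : ℕ} (N : V →ₗ[F] V) (x : Fin r → V) (c : (Fin r → F) × (Fin r → F)) :
    lift N x c = (∑ i, c.1 i • x i) + ∑ i, c.2 i • N (x i) := by
  simp [lift, Fintype.linearCombination_apply]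

variable {B : V →ₛₗ[σ] V →ₗ[F] F} {N : V →ₗ[F] V} {r : ℕ} {β : Matrix (Fin r) (Fin r) F}
  {x : Fin r → V}

theorem IsFrame.indep (hN : Nil B N) (h : IsFrame B N β x) : LinearIndependent F (N ∘ x) := by
  rw [Fintype.linearIndependent_iff]
  intro c hc
  have h0 : Matrix.vecMul (σ ∘ c) β = 0 := funext fun j => by
    have := congrArg (fun w => B w (x j)) hc
    simpa [map_sum, LinearMap.map_smulₛₗ, h.gram, Matrix.vecMul, dotProduct] using this
  intro i
  have := congrFun (Matrix.eq_zero_of_vecMul_eq_zero h.det h0) i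
  exact σ.injective (this.trans (map_zero σ).symm)

theorem IsFrame.span_eq (hN : Nil B N) (h : IsFrame B N β x) :
    Submodule.span F (Set.range (N ∘ x)) = LinearMap.range N := by
  refine Submodule.eq_of_le_of_finrank_eq ?_ ?_
  · rw [Submodule.span_le]
    rintro _ ⟨i, rfl⟩
    exact ⟨x i, rfl⟩
  · rw [finrank_span_eq_card (h.indep hN), Fintype.card_fin, h.rank]

theorem IsFrame.exists_sub_mem_ker (hN : Nil B N) (h : IsFrame B N β x) (v : V) :
    ∃ c : Fin r → F, N v = N (∑ i, c i • x i) := by
  have : N v ∈ Submodule.span F (Set.range (N ∘ x)) := (h.span_eq hN).symm ▸ ⟨v, rfl⟩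
  obtain ⟨c, hc⟩ := (Submodule.mem_span_range_iff_exists_fun F).1 this
  exact ⟨c, by rw [← hc, map_sum]; simp⟩

theorem IsFrame.lift_injective (hN : Nil B N) (h : IsFrame B N β x) :
    Function.Injective (lift N x) := by
  rw [injective_iff_map_eq_zero]
  rintro ⟨a, b⟩ hab
  rw [lift_apply] at hab
  have hli := Fintype.linearIndependent_iff.1 (h.indep hN)
  have ha : ∀ i, a i = 0 := hli a (by
    have := congrArg N hab
    simpa [map_sum, hN.sq] using this)
  have hb : ∀ i, b i = 0 := hli b (by simpa [ha] using hab)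
  exact Prod.ext (funext ha) (funext hb)

theorem form_lift (hsym : ∀ u v, σ (B u v) = B v u) (hN : Nil B N) (h : IsFrame B N β x)
    (c d : (Fin r → F) × (Fin r → F)) :
    B (lift N x c) (lift N x d) =
      (∑ i, ∑ j, σ (c.2 i) * d.1 j * β i j) + ∑ i, ∑ j, σ (c.1 i) * d.2 j * σ (β j i) := by
  have hxy : ∀ i j, B (x i) (N (x j)) = σ (β j i) := fun i j => by rw [← hsym, h.gram]
  have hyy : ∀ i j, B (N (x i)) (N (x j)) = 0 := fun i j => by rw [hN.adj, hN.sq, map_zero]
  simp only [lift_apply, map_add, map_sum, LinearMap.add_apply, LinearMap.sum_apply,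
    LinearMap.map_smulₛₗ, LinearMap.smul_apply, RingHom.id_apply, smul_eq_mul, h.gram, h.iso, hxy,
    hyy, mul_zero, Finset.sum_const_zero, add_zero, zero_add]
  simp only [Finset.mul_sum]
  refine congrArg₂ (· + ·) ?_ ?_
  all_goals
    rw [Finset.sum_comm]
    exact Finset.sum_congr rfl fun i _ => Finset.sum_congr rfl fun j _ => by ring

/-- **Conjugacy**: frames with the same data give conjugate maps. -/
theorem exists_conj (hsl : B.SeparatingLeft) {α : Type*} (Φ : V → V → α)
    (hwitt : ∀ (X : Submodule F V) (f : X →ₗ[F] V), Function.Injective f →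
      (∀ a b : X, Φ (f a) (f b) = Φ (a : V) (b : V)) →
      ∃ g : V ≃ₗ[F] V, Preserves Φ g ∧ ∀ a : X, g (a : V) = f a)
    (hΦB : ∀ g : V ≃ₗ[F] V, Preserves Φ g → ∀ u v, B (g u) (g v) = B u v)
    {N' : V →ₗ[F] V} {x' : Fin r → V} (hN : Nil B N) (hN' : Nil B N')
    (h : IsFrame B N β x) (h' : IsFrame B N' β x')
    (hΦ : ∀ c d, Φ (lift N' x' c) (lift N' x' d) = Φ (lift N x c) (lift N x d)) :
    ∃ g : V ≃ₗ[F] V, Preserves Φ g ∧ (∀ i, g (x i) = x' i) ∧ ∀ v, g (N v) = N' (g v) := by
  classical
  set e := LinearEquiv.ofInjective (lift N x) (h.lift_injective hN) with he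
  obtain ⟨g, hg, hge⟩ := hwitt (LinearMap.range (lift N x)) (lift N' x' ∘ₗ e.symm.toLinearMap)
    ((h'.lift_injective hN').comp e.symm.injective) (fun a b => by
      obtain ⟨c, rfl⟩ := e.surjective a
      obtain ⟨d, rfl⟩ := e.surjective b
      simp only [LinearMap.comp_apply, LinearEquiv.coe_coe, LinearEquiv.symm_apply_apply]
      exact hΦ c d)
  have hglift : ∀ c, g (lift N x c) = lift N' x' c := fun c => by
    have := hge (e c)
    simpa [he] using this
  have hgx : ∀ i, g (x i) = x' i := fun i => by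
    have := hglift (Pi.single i 1, 0)
    simpa [lift_apply, Pi.single_apply] using this
  have hgy : ∀ i, g (N (x i)) = N' (x' i) := fun i => by
    have := hglift (0, Pi.single i 1)
    simpa [lift_apply, Pi.single_apply] using this
  have hgB := hΦB g hg
  refine ⟨g, hg, hgx, fun v => ?_⟩
  obtain ⟨c, hc⟩ := h.exists_sub_mem_ker hN v
  set k := v - ∑ i, c i • x i with hk
  have hk0 : N k = 0 := by rw [hk, map_sub, hc, sub_self]
  have hk' : N' (g k) = 0 := by
    refine hsl _ fun w => ?_
    rw [hN'.adj]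
    obtain ⟨c', hc'⟩ := h'.exists_sub_mem_ker hN' w
    rw [hc', map_sum]
    simp only [map_smul, ← hgy, ← hgB k] at *
    rw [map_sum]
    refine Finset.sum_eq_zero fun i _ => ?_
    rw [map_smul, hgB, ← hN.adj, hk0]
    simp
  have hv : v = k + ∑ i, c i • x i := by rw [hk, sub_add_cancel]
  rw [hv, map_add N, hk0, zero_add, map_add g, map_add N', hk', zero_add]
  simp [map_sum, hgx, hgy]

/-- a family adjusted inside the range keeps the data -/
theorem IsFrame.of_add (hN : Nil B N) {x' : Fin r → V}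
    (hrank : finrank F (LinearMap.range N) = r) (hdet : β.det ≠ 0)
    (hgram : ∀ i j, B (N (x i)) (x j) = β i j) (hx' : ∀ i, N (x' i) = N (x i))
    (hiso : ∀ i j, B (x' i) (x' j) = 0) : IsFrame B N β x' :=
  ⟨hrank, hdet, fun i j => by rw [hN.adj, hx' j, ← hN.adj, hx' i, hgram], hiso⟩

/-- vectors in the range dual to a frame -/
theorem exists_dual (hsym : ∀ u v, σ (B u v) = B v u) (hN : Nil B N)
    (hdet : β.det ≠ 0) (hgram : ∀ i j, B (N (x i)) (x j) = β i j) :
    ∃ z : Fin r → V, (∀ l, z l ∈ LinearMap.range N) ∧ (∀ i l, B (x i) (z l) = if i = l then 1 else 0) ∧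
      ∀ l i, B (z l) (x i) = if i = l then 1 else 0 := by
  classical
  set γ : Matrix (Fin r) (Fin r) F := (β.map σ).transpose with hγ
  have hγd : IsUnit γ.det := by
    rw [hγ, Matrix.det_transpose, ← RingHom.mapMatrix_apply, ← RingHom.map_det]
    exact isUnit_iff_ne_zero.2 ((map_ne_zero σ).2 hdet)
  have hxy : ∀ i j, B (x i) (N (x j)) = σ (β j i) := fun i j => by rw [← hsym, hgram]
  refine ⟨fun l => ∑ m, γ⁻¹ m l • N (x m), fun l => ⟨∑ m, γ⁻¹ m l • x m, by simp [map_sum]⟩,
    fun i l => ?_, fun l i => ?_⟩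
  · have := congrFun (congrFun (Matrix.mul_nonsing_inv γ hγd) i) l
    rw [Matrix.mul_apply, Matrix.one_apply] at this
    rw [← this, map_sum]
    exact Finset.sum_congr rfl fun m _ => by
      simp [hxy, hγ, mul_comm]
  · rw [← hsym]
    have := congrFun (congrFun (Matrix.mul_nonsing_inv γ hγd) i) l
    rw [Matrix.mul_apply, Matrix.one_apply] at this
    have e : B (x i) (∑ m, γ⁻¹ m l • N (x m)) = if i = l then 1 else 0 := by
      rw [← this, map_sum]
      exact Finset.sum_congr rfl fun m _ => by simp [hxy, hγ, mul_comm]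
    rw [e]
    split_ifs <;> simp

end Cfsg.Agent.Forms.Invol
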