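import Mathlib
import Cfsg.Agent.Lib.Forms.Invol.Basic
import Cfsg.Agent.Lib.Forms.Bases

/-!
# Normal frames of a self-adjoint map with square zero
-/

set_option autoImplicit false
set_option linter.unusedSectionVars false

namespace Cfsg.Agent.Forms.Invol

open Module Cfsg.Agent.Forms.Bases

variable {F V : Type*} [Field F] [AddCommGroup V] [Module F V] [FiniteDimensional F V]

section
variable {σ : F →+* F} {B : V →ₛₗ[σ] V →ₗ[F] F} {N : V →ₗ[F] V}

/-- the form carried by the range -/
theorem exists_section (hsl : B.SeparatingLeft) (hsym : ∀ u v, σ (B u v) = B v u) (hN : Nil B N) :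
    ∃ (s : LinearMap.range N →ₗ[F] V) (γ : LinearMap.range N →ₛₗ[σ] LinearMap.range N →ₗ[F] F),
      (∀ w, N (s w) = w) ∧ (∀ a b, γ a b = B (a : V) (s b)) ∧ (∀ a b, σ (γ a b) = γ b a) ∧
        γ.SeparatingLeft := by
  obtain ⟨s, hs⟩ := N.rangeRestrict.exists_rightInverse_of_surjective N.range_rangeRestrict
  have hs' : ∀ w, N (s w) = w := fun w => congrArg Subtype.val (LinearMap.congr_fun hs w)
  refine ⟨s, (B.compl₂ s).comp (LinearMap.range N).subtype, hs', fun a b => rfl, fun a b => ?_, ?_⟩
  · show σ (B (a : V) (s b)) = B (b : V) (s a)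
    rw [hsym, ← hs' a, ← hN.adj, hs']
  · intro a ha
    refine Subtype.ext (hsl _ fun v => ?_)
    obtain ⟨u, hu⟩ := a.2
    have h1 : B (a : V) (s ⟨N v, v, rfl⟩) = 0 := ha ⟨N v, v, rfl⟩
    rw [← hu, hN.adj, hs'] at h1
    rw [← hu, hN.adj]
    exact h1

variable {r : ℕ} {β : Matrix (Fin r) (Fin r) F}

theorem frame_of_basis {s : LinearMap.range N →ₗ[F] V} (hs : ∀ w, N (s w) = w)
    (b : Basis (Fin r) F (LinearMap.range N)) (hb : ∀ i j, B (b i : V) (s (b j)) = β i j) :
    finrank F (LinearMap.range N) = r ∧ ∀ i j, B (N (s (b i))) (s (b j)) = β i j :=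
  ⟨by rw [finrank_eq_card_basis b, Fintype.card_fin], fun i j => by rw [hs, hb]⟩

/-- adjusting to pairwise orthogonal members -/
theorem exists_iso (hsym : ∀ u v, σ (B u v) = B v u)
    (hdiag : ∀ v, ∃ a : F, σ a + a = B v v) (hN : Nil B N)
    (hrank : finrank F (LinearMap.range N) = r) (hdet : β.det ≠ 0) {x : Fin r → V}
    (hgram : ∀ i j, B (N (x i)) (x j) = β i j) : ∃ x' : Fin r → V, IsFrame B N β x' := by
  classical
  obtain ⟨z, hz, hxz, hzx⟩ := exists_dual hsym hN hdet hgram
  choose d hd using hdiag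
  let a : Fin r → Fin r → F := fun p q =>
    if q < p then -B (x q) (x p) else if p = q then -d (x p) else 0
  refine ⟨fun i => x i + ∑ l, a i l • z l, IsFrame.of_add hN hrank hdet hgram (fun i => ?_) fun i j => ?_⟩
  · have h0 : ∀ l, N (z l) = 0 := fun l => by
      obtain ⟨u, hu⟩ := hz l
      rw [← hu, hN.sq]
    simp [map_sum, h0]
  · have hzz : ∀ l m, B (z l) (z m) = 0 := fun l m => by
      obtain ⟨u, hu⟩ := hz l
      obtain ⟨v, hv⟩ := hz m
      rw [← hu, ← hv, hN.adj, hN.sq, map_zero]
    have e : B (x i + ∑ l, a i l • z l) (x j + ∑ l, a j l • z l) = B (x i) (x j) + a j i + σ (a i j) := by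
      simp only [map_add, map_sum, LinearMap.add_apply, LinearMap.sum_apply, LinearMap.map_smulₛₗ,
        LinearMap.smul_apply, RingHom.id_apply, smul_eq_mul, hxz, hzx, hzz, mul_zero,
        Finset.sum_const_zero, add_zero, mul_ite, mul_one, Finset.sum_ite_eq, Finset.mem_univ, if_true]
      ring
    rw [e]
    rcases lt_trichotomy i j with h | rfl | h
    · simp only [a, if_pos h, not_lt_of_gt h, if_neg h.ne, if_false, map_zero]
      ring
    · simp only [a, lt_irrefl, if_false, if_true, map_neg]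
      linear_combination -hd (x i)
    · simp only [a, if_pos h, not_lt_of_gt h, if_neg h.ne, if_false, map_neg, hsym]
      ring

end

/-! ### Symmetric forms in characteristic two -/

theorem exists_sqrt [Finite F] (h2 : (2 : F) = 0) (d : F) : ∃ c : F, c * c = d := by
  cases nonempty_fintype F
  have : CharP F 2 := CharTwo.of_one_ne_zero_of_two_eq_zero one_ne_zero h2
  obtain ⟨c, hc⟩ := FiniteField.isSquare_of_char_two (ringChar.eq F 2) d
  exact ⟨c, hc.symm⟩

/-- a non-alternating symmetric form has an orthonormal family -/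
theorem exists_orthonormal_two [Finite F] (h2 : (2 : F) = 0) (γ : LinearMap.BilinForm F V)
    (hs : ∀ u v, γ u v = γ v u) : ∀ (n : ℕ) (W : Submodule F V), NondegOn γ W → finrank F W = n →
      (n = 0 ∨ ∃ w ∈ W, γ w w ≠ 0) →
      ∃ v : Fin n → V, (∀ i, v i ∈ W) ∧ ∀ i j, γ (v i) (v j) = if i = j then 1 else 0 := by
  intro n
  induction n with
  | zero => exact fun W _ _ _ => ⟨Fin.elim0, fun i => i.elim0, fun i => i.elim0⟩
  | succ n ih =>
    intro W hW hn hne
    obtain ⟨w, hw, hww⟩ := hne.resolve_left (Nat.succ_ne_zero n)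
    obtain ⟨c, hc⟩ := exists_sqrt h2 (γ w w)⁻¹
    have hrefl : ∀ u v, γ u v = 0 → γ v u = 0 := fun u v h => by rw [hs, h]
    suffices ∃ v ∈ W, γ v v = 1 ∧ (n = 0 ∨ ∃ u ∈ W ⊓ LinearMap.ker (γ v), γ u u ≠ 0) by
      obtain ⟨v, hv, hv1, hu⟩ := this
      obtain ⟨hn', -, hf⟩ := split_anisotropic γ hrefl hW hv (by rw [hv1]; exact one_ne_zero)
      obtain ⟨f, hf1, hf2⟩ := ih _ hn' (by omega) hu
      refine ⟨Fin.cons v f, fun i => ?_, fun i j => ?_⟩
      · cases i using Fin.cases with
        | zero => simpa using hv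
        | succ i => simpa using (hf1 i).1
      · have hperp : ∀ i, γ v (f i) = 0 := fun i => (hf1 i).2
        cases i using Fin.cases with
        | zero =>
          cases j using Fin.cases with
          | zero => simpa using hv1
          | succ j => simpa [(Fin.succ_ne_zero j).symm] using hperp j
        | succ i =>
          cases j using Fin.cases with
          | zero => simpa [Fin.succ_ne_zero i] using (hs _ _).trans (hperp i)
          | succ j => simpa using hf2 i j
    have hv1 : γ (c • w) (c • w) = 1 := by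
      simp only [map_smul, LinearMap.smul_apply, smul_eq_mul]
      rw [← mul_assoc, hc, inv_mul_cancel₀ hww]
    by_cases hgood : n = 0 ∨ ∃ u ∈ W ⊓ LinearMap.ker (γ (c • w)), γ u u ≠ 0
    · exact ⟨c • w, W.smul_mem c hw, hv1, hgood⟩
    push Not at hgood
    obtain ⟨hn0, halt⟩ := hgood
    set v := c • w with hv
    have hvW : v ∈ W := W.smul_mem c hw
    obtain ⟨hn', -, hf⟩ := split_anisotropic γ hrefl hW hvW (by rw [hv1]; exact one_ne_zero)
    obtain ⟨e, he, he0⟩ := Submodule.exists_mem_ne_zero_of_ne_bot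
      (p := W ⊓ LinearMap.ker (γ v)) fun hb => by rw [hb, finrank_bot] at hf; omega
    obtain ⟨f', hf', hef⟩ : ∃ f' ∈ W ⊓ LinearMap.ker (γ v), γ e f' ≠ 0 := by
      by_contra h
      push Not at h
      exact he0 (hn' e he h)
    set f := (γ e f')⁻¹ • f' with hfdef
    have hfm : f ∈ W ⊓ LinearMap.ker (γ v) := Submodule.smul_mem _ _ hf'
    have hef1 : γ e f = 1 := by rw [hfdef, map_smul, smul_eq_mul, inv_mul_cancel₀ hef]
    have hve : γ v e = 0 := he.2
    have hvf : γ v f = 0 := hfm.2
    refine ⟨v + e, W.add_mem hvW he.1, ?_, Or.inr ⟨v + f, ⟨W.add_mem hvW hfm.1, ?_⟩, ?_⟩⟩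
    · simp [hv1, hve, hs e v, halt e he]
    · show γ (v + e) (v + f) = 0
      simp [hv1, hvf, hs e v, hve, hef1]
      linear_combination h2
    · simp [hv1, hvf, hs f v, halt f hfm]

/-- the standard alternating matrix -/
def altMat (F : Type*) [Field F] (m : ℕ) : Matrix (Fin (m + m)) (Fin (m + m)) F :=
  fun i j => if (finSumFinEquiv.symm i).swap = finSumFinEquiv.symm j then 1 else 0

theorem altMat_det (F : Type*) [Field F] (m : ℕ) : (altMat F m).det ≠ 0 := by
  intro h
  have h1 : altMat F m * altMat F m = 1 := by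
    ext i j
    rw [Matrix.mul_apply, Finset.sum_eq_single (finSumFinEquiv (finSumFinEquiv.symm i).swap)]
    · simp only [altMat, Equiv.symm_apply_apply, if_true, one_mul, Sum.swap_swap, Matrix.one_apply,
        EmbeddingLike.apply_eq_iff_eq]
    · intro k _ hk
      rw [show altMat F m i k = 0 from if_neg fun e => hk (by rw [e, Equiv.apply_symm_apply]),
        zero_mul]
    · simp
  have := congrArg Matrix.det h1
  rw [Matrix.det_mul, h, zero_mul, Matrix.det_one] at this
  exact zero_ne_one this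

variable [Finite F] {N : V →ₗ[F] V}

/-- frames for a bilinear alternating form in characteristic two: two normal types -/
theorem exists_frame_two (h2 : (2 : F) = 0) {B : LinearMap.BilinForm F V} (hB : B.Nondegenerate)
    (hA : B.IsAlt) (hN : Nil B N) :
    ((∀ u, B (N u) u = 0) → ∃ m, finrank F (LinearMap.range N) = m + m ∧
      ∃ x, IsFrame B N (altMat F m) x) ∧
    ((∃ u, B (N u) u ≠ 0) →
      ∃ x : Fin (finrank F (LinearMap.range N)) → V, IsFrame B N 1 x) := by
  have hsym : ∀ u v, (RingHom.id F) (B u v) = B v u := fun u v => by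
    have := LinearMap.IsAlt.neg (B := B) hA u v
    rw [RingHom.id_apply, ← this]
    linear_combination (B u v) * h2
  obtain ⟨s, γ, hs, hγ, hγs, hγn⟩ := exists_section hB.1 hsym hN
  have hγd : ∀ (a : LinearMap.range N) (u : V), N u = (a : V) → γ a a = B (N u) u := fun a u hu => by
    rw [hγ, hu]
    have e : N (s a - u) = 0 := by rw [map_sub, hs, hu, sub_self]
    have h := (hN.adj u (s a - u)).trans (by rw [e, map_zero])
    rw [hu, map_sub, sub_eq_zero] at h
    exact h
  have hγnd : γ.Nondegenerate := ⟨hγn, fun b hb => hγn b fun a => by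
    rw [← hγs a b, hb a, map_zero]⟩
  constructor
  · intro halt
    have hγA : LinearMap.BilinForm.IsAlt γ := fun a => by
      obtain ⟨u, hu⟩ := a.2
      rw [hγd a u hu]; exact halt u
    obtain ⟨m, hm⟩ := even_finrank_of_alt γ hγA hγnd
    obtain ⟨b, h1, h3, h4⟩ := exists_sympBasis γ hγA hγnd hm
    have hrank : finrank F (LinearMap.range N) = m + m := by rw [hm, two_mul]
    refine ⟨m, hrank, exists_iso hsym (fun v => ⟨0, by simp [hA v]⟩) hN hrank (altMat_det F m)
      (frame_of_basis (β := altMat F m) hs (b.reindex finSumFinEquiv) fun i j => ?_).2⟩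
    rw [← hγ]
    simp only [Basis.reindex_apply, altMat]
    rcases finSumFinEquiv.symm i with p | p <;> rcases finSumFinEquiv.symm j with q | q
    · simp [h3]
    · simp [h1]
    · rw [← hγs]; simp [h1, eq_comm]
    · simp [h4]
  · rintro ⟨u, hu⟩
    obtain ⟨v, -, hv⟩ := exists_orthonormal_two h2 γ (fun a b => (RingHom.id_apply (γ a b)).symm.trans (hγs a b)) _ ⊤ (nondegOn_top hγn)
      (finrank_top F _) (Or.inr ⟨⟨N u, u, rfl⟩, trivial, by rw [hγd _ u rfl]; exact hu⟩)
    have hli : LinearIndependent F v := linearIndependent_of_orth (B := γ)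
      (fun i j h => by rw [hv, if_neg h]) fun i => by simp [hv]
    let b := basisOfLinearIndependentOfCardEqFinrank' v hli (Fintype.card_fin _)
    refine exists_iso hsym (fun v => ⟨0, by simp [hA v]⟩) hN rfl (by simp)
      (frame_of_basis (β := 1) hs b fun i j => ?_).2
    rw [← hγ]
    simp [b, hv, Matrix.one_apply]

/-- frames for a hermitian form: one normal type -/
theorem exists_frame_herm {σ : F →+* F} (hσne : σ ≠ RingHom.id F) (hσ2 : ∀ a, σ (σ a) = a)
    {B : V →ₛₗ[σ] V →ₗ[F] F} (hsl : B.SeparatingLeft) (hsym : ∀ u v, σ (B u v) = B v u)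
    (hN : Nil B N) : ∃ x : Fin (finrank F (LinearMap.range N)) → V, IsFrame B N 1 x := by
  obtain ⟨s, γ, hs, hγ, hγs, hγn⟩ := exists_section hsl hsym hN
  obtain ⟨b, hb⟩ := exists_orthonormal_basis σ hσne hσ2 γ ⟨hγs⟩ hγn
  obtain ⟨t, ht⟩ := Witt.exists_trace_ne_zero σ hσne
  refine exists_iso hsym (fun v => ⟨B v v * t / (t + σ t), ?_⟩) hN rfl (by simp)
    (frame_of_basis (β := 1) hs b fun i j => ?_).2
  · rw [map_div₀, map_mul, map_add, hσ2, hsym, add_comm (σ t), ← add_div, ← mul_add, add_comm (σ t),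
      mul_div_assoc, div_self ht, mul_one]
  · rw [← hγ, hb, Matrix.one_apply]

end Cfsg.Agent.Forms.Invol
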