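import Mathlib
import Cfsg.Agent.Lib.Forms.Invol.Data

/-!
# Conjugacy under the symplectic and the unitary group
-/

set_option autoImplicit false
set_option linter.unusedSectionVars false

namespace Cfsg.Agent.Forms.Invol

open Module Cfsg.Agent.Forms.Witt

variable {F V : Type*} [Field F] [AddCommGroup V] [Module F V] [FiniteDimensional F V] [Finite F]
variable {N N' : V →ₗ[F] V}

theorem rank_eq_of_conj (g : V ≃ₗ[F] V) (hg : ∀ v, g (N v) = N' (g v)) :
    finrank F (LinearMap.range N) = finrank F (LinearMap.range N') := by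
  have e : (LinearMap.range N).map g.toLinearMap = LinearMap.range N' := by
    ext w
    constructor
    · rintro ⟨_, ⟨v, rfl⟩, rfl⟩
      exact ⟨g v, (hg v).symm⟩
    · rintro ⟨v, rfl⟩
      exact ⟨_, ⟨g.symm v, rfl⟩, by simp [hg]⟩
  rw [← e]
  exact ((g.submoduleMap _).finrank_eq)

theorem alt_iff_of_conj {B : LinearMap.BilinForm F V} (g : V ≃ₗ[F] V)
    (hB : ∀ u v, B (g u) (g v) = B u v) (hg : ∀ v, g (N v) = N' (g v)) :
    (∀ u, B (N u) u = 0) ↔ ∀ u, B (N' u) u = 0 := by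
  constructor <;> intro h u
  · have := h (g.symm u)
    rwa [← hB, hg, g.apply_symm_apply] at this
  · have := h (g u)
    rwa [← hg, hB] at this

theorem symm_of_alt' (h2 : (2 : F) = 0) {B : LinearMap.BilinForm F V} (hA : B.IsAlt) (u v : V) :
    B u v = B v u := by
  rw [← LinearMap.IsAlt.neg (B := B) hA u v]
  linear_combination (B u v) * h2

/-- **Involutions of the symplectic group**: conjugacy is detected by the rank and by alternation. -/
theorem conj_symp_iff (h2 : (2 : F) = 0) {B : LinearMap.BilinForm F V} (hB : B.Nondegenerate)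
    (hA : B.IsAlt) (hN : Nil B N) (hN' : Nil B N') :
    (∃ g : V ≃ₗ[F] V, (∀ u v, B (g u) (g v) = B u v) ∧ ∀ v, g (N v) = N' (g v)) ↔
      finrank F (LinearMap.range N) = finrank F (LinearMap.range N') ∧
        ((∀ u, B (N u) u = 0) ↔ ∀ u, B (N' u) u = 0) := by
  refine ⟨fun ⟨g, hg, hgN⟩ => ⟨rank_eq_of_conj g hgN, alt_iff_of_conj g hg hgN⟩, fun ⟨hr, halt⟩ => ?_⟩
  have hsym : ∀ u v, (RingHom.id F) (B u v) = B v u := symm_of_alt' h2 hA
  have key : ∀ {r : ℕ} {β : Matrix (Fin r) (Fin r) F} {x x' : Fin r → V}, IsFrame B N β x →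
      IsFrame B N' β x' → ∃ g : V ≃ₗ[F] V, (∀ u v, B (g u) (g v) = B u v) ∧ ∀ v, g (N v) = N' (g v) := by
    intro r β x x' h h'
    obtain ⟨g, hg, -, hgN⟩ := exists_conj hB.1 (fun u v => B u v) (witt_alt B hB hA) (fun g hg => hg)
      hN hN' h h' fun c d => by rw [form_lift hsym hN' h', form_lift hsym hN h]
    exact ⟨g, hg, hgN⟩
  obtain ⟨f₁, f₂⟩ := exists_frame_two h2 hB hA hN
  obtain ⟨f₁', f₂'⟩ := exists_frame_two h2 hB hA hN'
  by_cases ha : ∀ u, B (N u) u = 0
  · obtain ⟨m, hm, x, hx⟩ := f₁ ha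
    obtain ⟨m', hm', x', hx'⟩ := f₁' (halt.1 ha)
    obtain rfl : m = m' := by omega
    exact key hx hx'
  · have ha' : ¬ ∀ u, B (N' u) u = 0 := fun h => ha (halt.2 h)
    push Not at ha ha'
    obtain ⟨x, hx⟩ := f₂ ha
    obtain ⟨x', hx'⟩ := f₂' ha'
    revert x'
    rw [← hr]
    exact fun x' hx' => key hx hx'

/-- **Involutions of the unitary group**: one class for each rank, and the frames can be matched. -/
theorem conj_herm {σ : F →+* F} (hσne : σ ≠ RingHom.id F) (hσ2 : ∀ a, σ (σ a) = a)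
    {B : V →ₛₗ[σ] V →ₗ[F] F} (hB : B.Nondegenerate) (hsym : ∀ u v, σ (B u v) = B v u)
    (hN : Nil B N) (hN' : Nil B N')
    (hr : finrank F (LinearMap.range N) = finrank F (LinearMap.range N')) :
    ∃ g : V ≃ₗ[F] V, (∀ u v, B (g u) (g v) = B u v) ∧ ∀ v, g (N v) = N' (g v) := by
  obtain ⟨x, hx⟩ := exists_frame_herm hσne hσ2 hB.1 hsym hN
  obtain ⟨x', hx'⟩ := exists_frame_herm hσne hσ2 hB.1 hsym hN'
  revert x'
  rw [← hr]
  intro x' hx'
  obtain ⟨g, hg, -, hgN⟩ := exists_conj hB.1 (fun u v => B u v) (witt_herm σ hσne hσ2 B ⟨hsym⟩ hB)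
    (fun g hg => hg) hN hN' hx hx' fun c d => by rw [form_lift hsym hN' hx', form_lift hsym hN hx]
  exact ⟨g, hg, hgN⟩

end Cfsg.Agent.Forms.Invol
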