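import Mathlib
import Cfsg.Agent.Lib.Forms.Invol.Symp

/-!
# Conjugacy under an orthogonal group in characteristic two
-/

set_option autoImplicit false
set_option linter.unusedSectionVars false

namespace Cfsg.Agent.Forms.Invol

open Module Cfsg.Agent.Forms.Witt

variable {F V : Type*} [Field F] [AddCommGroup V] [Module F V]
variable {Q : QuadraticForm F V}

local notation "B" => QuadraticMap.polarBilin Q

attribute [-simp] QuadraticMap.polarBilin_apply_apply

theorem map_add_two (u v : V) : Q (u + v) = Q u + Q v + B u v := quad_map_add Q u v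

theorem map_smul_two (c : F) (v : V) : Q (c • v) = c * c * Q v := by
  simp [QuadraticMap.map_smul]

theorem map_sum_orth {ι : Type*} (s : Finset ι) (w : ι → V)
    (h : ∀ i j, i ≠ j → B (w i) (w j) = 0) (c : ι → F) :
    Q (∑ i ∈ s, c i • w i) = ∑ i ∈ s, c i * c i * Q (w i) := by
  classical
  induction s using Finset.induction with
  | empty => simp
  | @insert i s hi ih =>
    have h0 : B (c i • w i) (∑ j ∈ s, c j • w j) = 0 := by
      rw [map_sum]
      refine Finset.sum_eq_zero fun j hj => ?_
      rw [map_smul, map_smul, LinearMap.smul_apply, h i j fun e => hi (e ▸ hj), smul_zero, smul_zero]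
    rw [Finset.sum_insert hi, Finset.sum_insert hi, map_add_two, ih, map_smul_two, h0, add_zero]

variable [FiniteDimensional F V] {N N' : V →ₗ[F] V} {r : ℕ} {β : Matrix (Fin r) (Fin r) F}
  {x : Fin r → V}

theorem alt_polar (h2 : (2 : F) = 0) : LinearMap.BilinForm.IsAlt B := fun v => by
  have h : Q (v + v) = Q v + Q v + B v v := map_add_two v v
  have h3 : v + v = 0 := by rw [← two_smul F v, h2, zero_smul]
  rw [h3, QuadraticMap.map_zero] at h
  linear_combination -h + (-Q v) * h2

/-- values on a frame -/
theorem quad_lift (hN : Nil B N) (hQN : ∀ u, Q (N u) = B (N u) u) (h : IsFrame B N β x)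
    (a b : Fin r → F) :
    Q (lift N x (a, b)) = (∑ i, a i * a i * Q (x i)) + (∑ i, b i * b i * β i i) +
      ∑ i, ∑ j, a i * b j * β j i := by
  have hyy : ∀ i j, B (N (x i)) (N (x j)) = 0 := fun i j => by rw [hN.adj, hN.sq, map_zero]
  rw [lift_apply, map_add_two, map_sum_orth _ x fun i j _ => h.iso i j,
    map_sum_orth _ (fun i => N (x i)) fun i j _ => hyy i j]
  refine congrArg₂ (· + ·) (congrArg₂ (· + ·) rfl (Finset.sum_congr rfl fun i _ => by
    rw [hQN, h.gram])) ?_
  simp only [map_sum, LinearMap.sum_apply, map_smul, LinearMap.smul_apply, smul_eq_mul,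
    Finset.mul_sum]
  rw [Finset.sum_comm]
  refine Finset.sum_congr rfl fun i _ => Finset.sum_congr rfl fun j _ => ?_
  have e : B (x i) (N (x j)) = β j i := by rw [← h.gram]; exact QuadraticMap.polar_comm _ _ _
  rw [e]
  ring

theorem quad_adj (h2 : (2 : F) = 0) (hN : ∀ v, Q (v + N v) = Q v) (u : V) :
    Q (N u) = B (N u) u := by
  have h := hN u
  rw [map_add_two] at h
  have e : B u (N u) = B (N u) u := QuadraticMap.polar_comm _ _ _
  linear_combination h - e - (B (N u) u) * h2

variable [Finite F]

/-- an element outside the image of `s ↦ s + s²` splits the field -/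
theorem exists_delta (h2 : (2 : F) = 0) :
    ∃ δ : F, (∀ s, s + s * s ≠ δ) ∧ ∀ c, (∃ s, s + s * s = c) ∨ ∃ s, s + s * s = c + δ := by
  let f : F →+ F := AddMonoidHom.mk' (fun s => s + s * s) fun a b => by
    linear_combination (a * b) * h2
  have hker : Nat.card f.ker = 2 := by
    rw [Nat.card_eq_two_iff]
    refine ⟨0, ⟨1, by show (1 : F) + 1 * 1 = 0; linear_combination h2⟩, ?_, ?_⟩
    · exact fun h => zero_ne_one (congrArg Subtype.val h)
    · refine Set.eq_univ_of_forall fun ⟨s, hs⟩ => ?_
      have hs' : s * (s + 1) = 0 := by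
        have : s + s * s = 0 := hs
        linear_combination this
      rcases mul_eq_zero.1 hs' with h | h
      · exact Or.inl (Subtype.ext h)
      · exact Or.inr (Subtype.ext (show s = 1 by linear_combination h - h2))
  have hidx : f.range.index = 2 := by
    have h1 := f.range.card_mul_index
    have h3 := f.ker.card_mul_index
    rw [AddSubgroup.index_ker] at h3
    rw [hker] at h3
    have h4 : 0 < Nat.card f.range := Nat.card_pos
    nlinarith
  obtain ⟨δ, hδ⟩ : ∃ δ, δ ∉ f.range := by
    by_contra hc
    push Not at hc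
    rw [(AddSubgroup.eq_top_iff' _).2 hc, AddSubgroup.index_top] at hidx
    exact one_ne_zero (α := ℕ) (by omega)
  refine ⟨δ, fun s hs => hδ ⟨s, hs⟩, fun c => ?_⟩
  by_cases hc : c ∈ f.range
  · exact Or.inl hc
  · exact Or.inr ((AddSubgroup.add_mem_iff_of_index_two hidx).2 (iff_of_false hc hδ))

variable (hQ : (QuadraticMap.polarBilin Q).Nondegenerate)
include hQ

/-- normal quadratic frames, alternating case -/
theorem exists_quad_alt (h2 : (2 : F) = 0) (hN : Nil B N) (hQN : ∀ u, Q (N u) = B (N u) u)
    (halt : ∀ u, B (N u) u = 0) :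
    ∃ m, finrank F (LinearMap.range N) = m + m ∧
      ∃ x, IsFrame B N (altMat F m) x ∧ ∀ i, Q (x i) = 0 := by
  obtain ⟨m, hm, x, hx⟩ := (exists_frame_two h2 hQ (alt_polar h2) hN).1 halt
  have hsym : ∀ u v, (RingHom.id F) (B u v) = B v u := symm_of_alt' h2 (alt_polar h2)
  obtain ⟨z, hz, hxz, hzx⟩ := exists_dual hsym hN hx.det hx.gram
  have hzz : ∀ l n, B (z l) (z n) = 0 := fun l n => by
    obtain ⟨u, hu⟩ := hz l
    obtain ⟨v, hv⟩ := hz n
    rw [← hu, ← hv, hN.adj, hN.sq, map_zero]
  refine ⟨m, hm, fun i => x i + Q (x i) • z i, IsFrame.of_add hN hm hx.det hx.gram (fun i => ?_)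
    fun i j => ?_, fun i => ?_⟩
  · obtain ⟨u, hu⟩ := hz i
    rw [map_add, map_smul, ← hu, hN.sq, smul_zero, add_zero]
  · by_cases hij : i = j
    · subst hij
      exact alt_polar h2 _
    · simp only [map_add, map_smul, LinearMap.add_apply, LinearMap.smul_apply, smul_eq_mul, hx.iso,
        hxz, hzx, hzz, if_neg hij, if_neg (Ne.symm hij), mul_zero, add_zero]
  · obtain ⟨u, hu⟩ := hz i
    have hQz : Q (z i) = 0 := by rw [← hu, hQN, halt]
    rw [map_add_two, map_smul_two, hQz, map_smul, hxz, if_pos rfl, smul_eq_mul]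
    linear_combination (Q (x i)) * h2

/-- normal quadratic frames, non-alternating case -/
theorem exists_quad_one (h2 : (2 : F) = 0) (hN : Nil B N) (hQN : ∀ u, Q (N u) = B (N u) u)
    (hna : ∃ u, B (N u) u ≠ 0) {δ : F} (hδ : ∀ c, (∃ s, s + s * s = c) ∨ ∃ s, s + s * s = c + δ) :
    ∃ x : Fin (finrank F (LinearMap.range N)) → V, IsFrame B N 1 x ∧ ((∀ i, Q (x i) = 0) ∨
      (finrank F V = finrank F (LinearMap.range N) + finrank F (LinearMap.range N) ∧
        ∃ p : Fin (finrank F (LinearMap.range N)), (p : ℕ) + 1 = finrank F (LinearMap.range N) ∧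
          Q (x p) = δ ∧ ∀ i, i ≠ p → Q (x i) = 0)) := by
  classical
  have hf := (exists_frame_two h2 hQ (alt_polar h2) hN).2 hna
  set r := finrank F (LinearMap.range N) with hr
  obtain ⟨x, hx⟩ := hf
  have hsym : ∀ u v, B u v = B v u := symm_of_alt' h2 (alt_polar h2)
  set y : Fin r → V := fun i => N (x i) with hy
  have hyx : ∀ i j, B (y i) (x j) = if i = j then 1 else 0 := fun i j => by
    rw [hy, hx.gram, Matrix.one_apply]
  have hxy : ∀ i j, B (x i) (y j) = if i = j then 1 else 0 := fun i j => by
    rw [hsym, hyx]; simp [eq_comm]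
  have hyy : ∀ i j, B (y i) (y j) = 0 := fun i j => by rw [hy, hN.adj, hN.sq, map_zero]
  have hQy : ∀ i, Q (y i) = 1 := fun i => by rw [hy, hQN, hx.gram, Matrix.one_apply_eq]
  by_cases hU : ∃ u, (∀ i, B (x i) u = 0) ∧ (∀ i, B (y i) u = 0) ∧ Q u ≠ 0
  · obtain ⟨u, hux, huy, hQu⟩ := hU
    have hNu : N u = 0 := hQ.1 _ fun w => by
      rw [hN.adj]
      obtain ⟨c, hc⟩ := hx.exists_sub_mem_ker hN w
      rw [hc, map_sum, map_sum]
      refine Finset.sum_eq_zero fun i _ => ?_
      rw [map_smul, map_smul, hsym, huy i, smul_zero]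
    have hs : ∀ i, ∃ s : F, s * s = Q (x i) / Q u := fun i => exists_sqrt h2 _
    choose s hs using hs
    refine ⟨fun i => x i + s i • u, IsFrame.of_add hN hr.symm hx.det hx.gram (fun i => ?_) fun i j => ?_,
      Or.inl fun i => ?_⟩
    · rw [map_add, map_smul, hNu, smul_zero, add_zero]
    · simp only [map_add, map_smul, LinearMap.add_apply, LinearMap.smul_apply, smul_eq_mul, hx.iso,
        hux, (hsym u (x j)).trans (hux j), alt_polar h2 u, mul_zero, add_zero]
    · rw [map_add_two, map_smul_two, map_smul, hux, smul_zero, add_zero, hs, div_mul_cancel₀ _ hQu]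
      linear_combination (Q (x i)) * h2
  · push Not at hU
    have hinj := hx.lift_injective hN
    have hsurj : Function.Surjective (lift N x) := fun v => by
      refine ⟨(fun i => B (y i) v, fun i => B (x i) v), ?_⟩
      set d := v - lift N x (fun i => B (y i) v, fun i => B (x i) v) with hd
      have hdx : ∀ i, B (x i) d = 0 := fun i => by
        rw [hd, map_sub, lift_apply, map_add, map_sum, map_sum]
        simp only [map_smul, smul_eq_mul, hx.iso, mul_zero, Finset.sum_const_zero, zero_add]
        have e1 : ∀ j, B (x i) (N (x j)) = if i = j then 1 else 0 := hxy i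
        simp [e1]
      have hdy : ∀ i, B (y i) d = 0 := fun i => by
        rw [hd, map_sub, lift_apply, map_add, map_sum, map_sum]
        simp only [map_smul, smul_eq_mul]
        have e1 : ∀ j, B (y i) (x j) = if i = j then 1 else 0 := hyx i
        have e2 : ∀ j, B (y i) (N (x j)) = 0 := hyy i
        simp [e1, e2]
      have hd0 : d = 0 := hQ.1 _ fun w => by
        set c := (fun i => B (y i) w, fun i => B (x i) w) with hc
        set e := w - lift N x c with he
        have hex : ∀ i, B (x i) e = 0 := fun i => by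
          rw [he, map_sub, lift_apply, map_add, map_sum, map_sum]
          have e1 : ∀ j, B (x i) (N (x j)) = if i = j then 1 else 0 := hxy i
          simp [hc, hx.iso, e1]
        have hey : ∀ i, B (y i) e = 0 := fun i => by
          rw [he, map_sub, lift_apply, map_add, map_sum, map_sum]
          have e1 : ∀ j, B (y i) (x j) = if i = j then 1 else 0 := hyx i
          have e2 : ∀ j, B (y i) (N (x j)) = 0 := hyy i
          simp [hc, e1, e2]
        have hde : B d e = 0 := by
          have h1 := hU (d + e) (fun i => by rw [map_add, hdx, hex, add_zero])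
            fun i => by rw [map_add, hdy, hey, add_zero]
          rw [map_add_two, hU d hdx hdy, hU e hex hey] at h1
          simpa using h1
        have hw : w = lift N x c + e := by rw [he, add_sub_cancel]
        rw [hw, map_add, hde, add_zero, lift_apply, map_add, map_sum, map_sum]
        have e1 : ∀ j, B d (x j) = 0 := fun j => (hsym _ _).trans (hdx j)
        have e2 : ∀ j, B d (N (x j)) = 0 := fun j => (hsym _ _).trans (hdy j)
        simp [e1, e2]
      rw [hd, sub_eq_zero] at hd0
      exact hd0.symm
    have hdim : finrank F V = r + r := by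
      rw [← (LinearEquiv.ofBijective (lift N x) ⟨hinj, hsurj⟩).finrank_eq, Module.finrank_prod,
        Module.finrank_fintype_fun_eq_card, Fintype.card_fin]
    rcases Nat.eq_zero_or_pos r with hr0 | hr0
    · exact ⟨x, hx, Or.inl fun i => absurd i.2 (by omega)⟩
    set p : Fin r := ⟨r - 1, by omega⟩ with hp
    have hs : ∀ i, ∃ s : F, s * s = Q (x i) := fun i => exists_sqrt h2 _
    choose e he using hs
    set w := x p + ∑ i ∈ Finset.univ.erase p, e i • y i with hw
    have hwy : B w (y p) = 1 := by
      rw [hw, map_add, LinearMap.add_apply, map_sum, LinearMap.sum_apply, hxy, if_pos rfl,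
        Finset.sum_eq_zero fun i _ => ?_, add_zero]
      rw [map_smul, LinearMap.smul_apply, hyy, smul_zero]
    have hQb : ∀ b : F, Q (w + b • y p) = Q w + (b + b * b) := fun b => by
      rw [map_add_two, map_smul_two, map_smul, hwy, hQy, smul_eq_mul]
      ring
    have hwx : ∀ j, j ≠ p → B w (x j) = e j := fun j hj => by
      rw [hw, map_add, LinearMap.add_apply, hx.iso, zero_add, map_sum, LinearMap.sum_apply,
        Finset.sum_eq_single j (fun i _ hij => by rw [map_smul, LinearMap.smul_apply, hyx, if_neg hij,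
          smul_zero]) fun h => absurd (Finset.mem_erase.2 ⟨hj, Finset.mem_univ j⟩) h,
        map_smul, LinearMap.smul_apply, hyx, if_pos rfl, smul_eq_mul, mul_one]
    have key : ∀ b : F, IsFrame B N 1 (Function.update (fun i => x i + e i • y p) p (w + b • y p)) ∧
        ∀ i, i ≠ p → Q (Function.update (fun i => x i + e i • y p) p (w + b • y p) i) = 0 := by
      intro b
      refine ⟨IsFrame.of_add hN hr.symm hx.det hx.gram (fun i => ?_) fun i j => ?_, fun i hi => ?_⟩
      · have hy0 : ∀ j, N (y j) = 0 := fun j => hN.sq _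
        rcases eq_or_ne i p with rfl | hi
        · simp [hw, map_sum, hy0]
        · simp [Function.update_of_ne hi, hy0]
      · have hmix : ∀ j, j ≠ p → B (w + b • y p) (x j + e j • y p) = 0 := fun j hj => by
          simp only [map_add, map_smul, LinearMap.add_apply, LinearMap.smul_apply, smul_eq_mul, hwx j hj,
            hwy, hyx, if_neg (Ne.symm hj), hyy, mul_one, mul_zero, add_zero]
          linear_combination (e j) * h2
        rcases eq_or_ne i p with rfl | hi <;> rcases eq_or_ne j p with rfl | hj
        · exact alt_polar h2 _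
        · rw [Function.update_self, Function.update_of_ne hj]; exact hmix j hj
        · rw [Function.update_self, Function.update_of_ne hi, hsym]; exact hmix i hi
        · rw [Function.update_of_ne hi, Function.update_of_ne hj]
          simp only [map_add, map_smul, LinearMap.add_apply, LinearMap.smul_apply, smul_eq_mul,
            hx.iso, hxy, hyx, hyy, if_neg hi, if_neg (Ne.symm hj), mul_zero, add_zero]
      · rw [Function.update_of_ne hi, map_add_two, map_smul_two, map_smul, hxy, if_neg hi, smul_zero,
          add_zero, hQy, mul_one, he]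
        linear_combination (Q (x i)) * h2
    rcases hδ (Q w) with ⟨b, hb⟩ | ⟨b, hb⟩
    · refine ⟨_, (key b).1, Or.inl fun i => ?_⟩
      rcases eq_or_ne i p with rfl | hi
      · rw [Function.update_self, hQb, hb]; linear_combination (Q w) * h2
      · exact (key b).2 i hi
    · refine ⟨_, (key b).1, Or.inr ⟨hdim, p, by simp [hp]; omega, ?_, (key b).2⟩⟩
      rw [Function.update_self, hQb, hb]; linear_combination (Q w) * h2

/-- the two non-alternating types of full rank do not meet -/
theorem not_mixed (h2 : (2 : F) = 0) (hN : Nil B N) (hN' : Nil B N')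
    (hQN' : ∀ u, Q (N' u) = B (N' u) u) {x' : Fin r → V}
    (h : IsFrame B N 1 x) (h' : IsFrame B N' 1 x') (hdim : finrank F V = r + r)
    (hx : ∀ i, Q (x i) = 0) {p : Fin r} {δ : F} (hδ : ∀ s, s + s * s ≠ δ) (hp : Q (x' p) = δ)
    (hx' : ∀ i, i ≠ p → Q (x' i) = 0) : False := by
  classical
  let J := {i : Fin r // i ≠ p}
  set L := Fintype.linearCombination F (fun i : J => x i) with hL
  set L' := Fintype.linearCombination F (fun i : J => x' i) with hL'
  have hli : ∀ (N₁ : V →ₗ[F] V) (x₁ : Fin r → V), Nil B N₁ → IsFrame B N₁ 1 x₁ →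
      LinearIndependent F x₁ := by
    intro N₁ x₁ hN₁ h₁
    refine Fintype.linearIndependent_iff.2 fun c hc => ?_
    have := (injective_iff_map_eq_zero _).1 (h₁.lift_injective hN₁) (c, 0) (by simp [lift_apply, hc])
    exact congrFun (congrArg Prod.fst this)
  have hsing : ∀ (x₁ : Fin r → V), (∀ i j, B (x₁ i) (x₁ j) = 0) → (∀ i, i ≠ p → Q (x₁ i) = 0) →
      ∀ c : J → F, Q (∑ i : J, c i • x₁ i) = 0 := fun x₁ h1 h3 c => by
    rw [map_sum_orth _ (fun i : J => x₁ i) fun i j _ => h1 i j]
    exact Finset.sum_eq_zero fun i _ => by rw [h3 i i.2, mul_zero]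
  have hLinj : Function.Injective L := by
    rw [hL, ← linearIndependent_iff_injective_fintypeLinearCombination]
    exact (hli N x hN h).comp _ Subtype.val_injective
  have hL'inj : Function.Injective L' := by
    rw [hL', ← linearIndependent_iff_injective_fintypeLinearCombination]
    exact (hli N' x' hN' h').comp _ Subtype.val_injective
  obtain ⟨g, hg, hgx⟩ := witt_quad Q hQ (LinearMap.range L)
    (L' ∘ₗ (LinearEquiv.ofInjective L hLinj).symm.toLinearMap)
    (hL'inj.comp (LinearEquiv.ofInjective L hLinj).symm.injective) fun a => by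
      obtain ⟨c, rfl⟩ := (LinearEquiv.ofInjective L hLinj).surjective a
      simp only [LinearMap.comp_apply, LinearEquiv.coe_coe, LinearEquiv.symm_apply_apply,
        LinearEquiv.ofInjective_apply, hL, hL', Fintype.linearCombination_apply]
      rw [hsing x' h'.iso hx' c, hsing x h.iso (fun i _ => hx i) c]
  have hgxi : ∀ i : J, g (x i) = x' i := fun i => by
    have := hgx (LinearEquiv.ofInjective L hLinj (Pi.single i 1))
    simpa [hL, hL', Fintype.linearCombination_apply_single] using this
  have hgB : ∀ u v, B (g u) (g v) = B u v := fun u v => by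
    have h3 := hg (u + v)
    rw [map_add g, map_add_two, map_add_two, hg, hg] at h3
    linear_combination h3
  obtain ⟨⟨a, b⟩, hab⟩ := (LinearMap.injective_iff_surjective_of_finrank_eq_finrank (by
    rw [Module.finrank_prod, Module.finrank_fintype_fun_eq_card, Fintype.card_fin, hdim])).1
    (h'.lift_injective hN') (g (x p))
  have hb : ∀ j, j ≠ p → b j = 0 := fun j hj => by
    have h1 : B (g (x p)) (x' j) = 0 := by
      rw [← hgxi ⟨j, hj⟩, hgB]; exact h.iso p j
    rw [← hab, lift_apply] at h1
    simpa [map_sum, h'.iso, h'.gram, Matrix.one_apply] using h1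
  have hQv := hg (x p)
  rw [← hab, quad_lift hN' hQN' h', hx p] at hQv
  have e1 : ∑ i, a i * a i * Q (x' i) = a p * a p * δ := by
    rw [Finset.sum_eq_single p (fun i _ hi => by rw [hx' i hi, mul_zero]) (by simp), hp]
  have e2 : ∑ i, b i * b i * (1 : Matrix (Fin r) (Fin r) F) i i = b p * b p := by
    rw [Finset.sum_eq_single p (fun i _ hi => by rw [hb i hi, zero_mul, zero_mul]) (by simp)]
    simp
  have e3 : ∑ i, ∑ j, a i * b j * (1 : Matrix (Fin r) (Fin r) F) j i = a p * b p := by
    rw [Finset.sum_eq_single p (fun i _ hi => ?_) (by simp)]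
    · simp [Matrix.one_apply]
    · simp [Matrix.one_apply, hb i hi]
  rw [e1, e2, e3] at hQv
  rcases eq_or_ne (a p) 0 with ha | ha
  · rw [ha] at hQv
    have hbp : b p = 0 := by simpa using hQv
    have hgp : g (x p) = g (∑ i : J, a i • x i) := by
      rw [map_sum, ← hab, lift_apply,
        Finset.sum_eq_zero (fun i _ => ?_ : ∀ i ∈ Finset.univ, b i • N' (x' i) = 0), add_zero,
        ← Finset.sum_subtype (Finset.univ.erase p) (by simp) (fun i => g (a i • x i)),
        ← Finset.add_sum_erase _ _ (Finset.mem_univ p)]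
      simp only [ha, zero_smul, zero_add]
      · refine Finset.sum_congr rfl fun i hi => ?_
        rw [map_smul, hgxi ⟨i, Finset.ne_of_mem_erase hi⟩]
      · rcases eq_or_ne i p with rfl | hi
        · rw [hbp, zero_smul]
        · rw [hb i hi, zero_smul]
    have hxp := g.injective hgp
    refine linearIndependent_iff_notMem_span.1 (hli N x hN h) p ?_
    rw [hxp]
    exact Submodule.sum_mem _ fun i _ => Submodule.smul_mem _ _
      (Submodule.subset_span ⟨i, ⟨Set.mem_univ _, i.2⟩, rfl⟩)
  · refine hδ (b p / a p) ?_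
    field_simp
    linear_combination hQv - (a p * a p * δ) * h2

/-- **Involutions of an orthogonal group**: conjugate as soon as conjugate for the polar form. -/
theorem conj_quad (h2 : (2 : F) = 0) (hN : Nil B N) (hN' : Nil B N')
    (hQN : ∀ u, Q (N u) = B (N u) u) (hQN' : ∀ u, Q (N' u) = B (N' u) u)
    (hr : finrank F (LinearMap.range N) = finrank F (LinearMap.range N'))
    (halt : (∀ u, B (N u) u = 0) ↔ ∀ u, B (N' u) u = 0) :
    ∃ g : V ≃ₗ[F] V, (∀ v, Q (g v) = Q v) ∧ ∀ v, g (N v) = N' (g v) := by
  have key : ∀ {r : ℕ} {β : Matrix (Fin r) (Fin r) F} {x x' : Fin r → V}, IsFrame B N β x →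
      IsFrame B N' β x' → (∀ i, Q (x' i) = Q (x i)) →
      ∃ g : V ≃ₗ[F] V, (∀ v, Q (g v) = Q v) ∧ ∀ v, g (N v) = N' (g v) := by
    intro r β x x' h h' hxx
    obtain ⟨g, hg, -, hgN⟩ := exists_conj hQ.1 (fun u _ => Q u)
      (fun X f hf hiso => by
        obtain ⟨g, hg, hgX⟩ := witt_quad Q hQ X f hf fun a => hiso a a
        exact ⟨g, fun u _ => hg u, hgX⟩)
      (fun g hg u v => by
        have h3 := hg (u + v) 0
        have h4 := hg u 0
        have h5 := hg v 0
        simp only [map_add g, map_add_two] at h3 h4 h5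
        linear_combination h3 - h4 - h5)
      hN hN' h h' fun c _ => by
        rw [show c = (c.1, c.2) from rfl, quad_lift hN' hQN' h', quad_lift hN hQN h]
        simp only [hxx]
    exact ⟨g, fun v => hg v 0, hgN⟩
  by_cases ha : ∀ u, B (N u) u = 0
  · obtain ⟨m, hm, x, hx, hx0⟩ := exists_quad_alt hQ h2 hN hQN ha
    obtain ⟨m', hm', x', hx', hx0'⟩ := exists_quad_alt hQ h2 hN' hQN' (halt.1 ha)
    obtain rfl : m = m' := by omega
    exact key hx hx' fun i => by rw [hx0, hx0']
  · have ha' : ¬ ∀ u, B (N' u) u = 0 := fun h => ha (halt.2 h)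
    push Not at ha ha'
    obtain ⟨δ, hδ1, hδ2⟩ := exists_delta (F := F) h2
    obtain ⟨x, hx, hcase⟩ := exists_quad_one hQ h2 hN hQN ha hδ2
    obtain ⟨x', hx', hcase'⟩ := exists_quad_one hQ h2 hN' hQN' ha' hδ2
    revert x'
    rw [← hr]
    intro x' hx' hcase'
    rcases hcase with h0 | ⟨hd, p, hp, hpδ, hp0⟩ <;> rcases hcase' with h0' | ⟨hd', p', hp', hpδ', hp0'⟩
    · exact key hx hx' fun i => by rw [h0, h0']
    · exact (not_mixed hQ h2 hN hN' hQN' hx hx' hd' h0 hδ1 hpδ' hp0').elim
    · exact (not_mixed hQ h2 hN' hN hQN hx' hx hd h0' hδ1 hpδ hp0).elim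
    · obtain rfl : p = p' := Fin.ext (by omega)
      refine key hx hx' fun i => ?_
      rcases eq_or_ne i p with rfl | hi
      · rw [hpδ, hpδ']
      · rw [hp0 i hi, hp0' i hi]

end Cfsg.Agent.Forms.Invol
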