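import Mathlib
import Cfsg.Agent.Lib.Forms.Invol.Quad
import Cfsg.Agent.Lib.Forms.SpecialOrth
import Cfsg.Agent.Lib.Forms.Max.OrthFamilies

/-!
# Involutions of `O(Q)` and `Ω(Q)` in characteristic two
-/

set_option autoImplicit false
set_option linter.unusedSectionVars false

namespace Cfsg.Agent.Forms.Invol

open Matrix Cfsg.Agent.Forms.QuadStd Cfsg.Agent.Forms.Reflections

variable {F : Type*} [Field F] {ι : Type} [Fintype ι] [DecidableEq ι]

/-- an involution less one has square zero -/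
theorem sub_one_sq (h2 : (2 : F) = 0) {A : Matrix ι ι F} (hA : A * A = 1) (v : ι → F) :
    Matrix.toLin' (A - 1) (Matrix.toLin' (A - 1) v) = 0 := by
  have e : (A - 1) * (A - 1) = 0 := by
    rw [sub_mul, mul_sub, one_mul, mul_one, hA]
    rw [show (1 : Matrix ι ι F) - A - (A - 1) = (2 : F) • (1 - A) by module, h2, zero_smul]
  rw [Matrix.toLin'_apply, Matrix.toLin'_apply, Matrix.mulVec_mulVec, e, Matrix.zero_mulVec]

theorem nil_sub_one (h2 : (2 : F) = 0) {σ : F →+* F} {B : (ι → F) →ₛₗ[σ] (ι → F) →ₗ[F] F}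
    {A : Matrix ι ι F} (hA : A * A = 1) (hB : ∀ u v, B (A *ᵥ u) (A *ᵥ v) = B u v) :
    Nil B (Matrix.toLin' (A - 1)) :=
  ⟨fun u v => by
    have h := hB u (A *ᵥ v)
    rw [Matrix.mulVec_mulVec, hA, Matrix.one_mulVec] at h
    simp only [Matrix.toLin'_apply, Matrix.sub_mulVec, Matrix.one_mulVec, map_sub,
      LinearMap.sub_apply, h], sub_one_sq h2 hA⟩

/-- conjugation as an intertwining of the maps less one -/
theorem conj_iff_sub_one (g A A' : Matrix.GeneralLinearGroup ι F) :
    g * A * g⁻¹ = A' ↔ ∀ v, (g : Matrix ι ι F) *ᵥ Matrix.toLin' ((A : Matrix ι ι F) - 1) v =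
      Matrix.toLin' ((A' : Matrix ι ι F) - 1) ((g : Matrix ι ι F) *ᵥ v) := by
  rw [mul_inv_eq_iff_eq_mul, Units.ext_iff, Units.val_mul, Units.val_mul, Matrix.ext_iff_mulVec]
  simp only [Matrix.toLin'_apply, Matrix.sub_mulVec, Matrix.one_mulVec, Matrix.mulVec_sub,
    Matrix.mulVec_mulVec, sub_mul, one_mul, sub_left_inj]

variable [Fintype F] {Q : QuadraticForm F (ι → F)}

local notation "B" => QuadraticMap.polarBilin Q
set_option quotPrecheck false in
local notation "Iso" => Cfsg.isometryGroup F ⇑Q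

/-- the matrix of an isometry -/
abbrev mat (t : Cfsg.isometryGroup F ⇑Q) : Matrix ι ι F := ((t : Matrix.GeneralLinearGroup ι F) : Matrix ι ι F)

theorem range_sub_one (t : Iso) : LinearMap.range (Matrix.toLin' (mat t - 1)) = imSp t := by
  rw [imSp, map_sub, Matrix.toLin'_one]
  rfl

theorem mat_sq {t : Iso} (ht : orderOf t = 2) : mat t * mat t = 1 := by
  have h := pow_orderOf_eq_one t
  rw [ht, sq] at h
  exact congrArg (fun g : Iso => mat g) h

theorem nil_iso (h2 : (2 : F) = 0) {t : Iso} (ht : orderOf t = 2) :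
    Nil B (Matrix.toLin' (mat t - 1)) ∧
      ∀ u, Q (Matrix.toLin' (mat t - 1) u) = B (Matrix.toLin' (mat t - 1) u) u := by
  refine ⟨nil_sub_one h2 (mat_sq ht) fun u v => ?_, quad_adj h2 fun v => ?_⟩
  · simp only [← act_apply]
    exact act_polar t u v
  · rw [Matrix.toLin'_apply, Matrix.sub_mulVec, Matrix.one_mulVec, add_sub_cancel, ← act_apply]
    exact act_map t v

variable (hQ : (QuadraticMap.polarBilin Q).Nondegenerate)
include hQ

/-- **Conjugacy in `O(Q)`** is conjugacy under the group of the polar form. -/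
theorem isConj_iff_polar (h2 : (2 : F) = 0) {t s : Iso} (ht : orderOf t = 2) (hs : orderOf s = 2) :
    IsConj t s ↔ ∃ g ∈ Cfsg.preserving (Units.coeHom (Matrix ι ι F))
      (fun u v => Q (u + v) - Q u - Q v),
      g * (t : Matrix.GeneralLinearGroup ι F) * g⁻¹ = (s : Matrix.GeneralLinearGroup ι F) := by
  constructor
  · intro h
    obtain ⟨c, hc⟩ := isConj_iff.1 h
    refine ⟨c, fun u v => ?_, congrArg Subtype.val hc⟩
    have := act_polar c u v
    simpa [QuadraticMap.polar, act_apply] using this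
  · rintro ⟨g, hg, hgc⟩
    obtain ⟨hN, hQN⟩ := nil_iso h2 ht
    obtain ⟨hN', hQN'⟩ := nil_iso h2 hs
    let e : (ι → F) ≃ₗ[F] (ι → F) :=
      LinearMap.GeneralLinearGroup.generalLinearEquiv F (ι → F) (Matrix.GeneralLinearGroup.toLin g)
    have he : ∀ v, e v = (g : Matrix ι ι F) *ᵥ v := fun v => rfl
    have hint : ∀ v, e (Matrix.toLin' (mat t - 1) v) = Matrix.toLin' (mat s - 1) (e v) := fun v => by
      simp only [he]; exact (conj_iff_sub_one g _ _).1 hgc v
    have heB : ∀ u v, B (e u) (e v) = B u v := fun u v => by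
      simp only [QuadraticMap.polarBilin_apply_apply, QuadraticMap.polar, he]
      exact hg u v
    obtain ⟨f, hf, hfN⟩ := conj_quad hQ h2 hN hN' hQN hQN' (rank_eq_of_conj e hint)
      (alt_iff_of_conj e heB hint)
    refine isConj_iff.2 ⟨isoOfEquiv ⇑Q f hf, Subtype.ext ?_⟩
    refine (conj_iff_sub_one _ _ _).2 fun v => ?_
    rw [isoOfEquiv_mulVec, isoOfEquiv_mulVec]
    exact hfN v

/-- **`Ω(Q)` is the kernel of the parity** -/
theorem mem_omega_iff_par [CharP F 2] (hn : 9 ≤ Fintype.card ι ∨ 5 ≤ Fintype.card ι) (g : Iso) :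
    g ∈ Cfsg.Omega F ⇑Q ↔ par g = 1 := by
  have h : Fintype.card F ≠ 2 ∨ Fintype.card ι ≠ 4 := Or.inr (by omega)
  let φ : Iso →* ℤˣ := MonoidHom.mk' par (par_mul_all hQ h)
  refine ⟨fun hg => Abelianization.commutator_subset_ker φ hg, fun hg => ?_⟩
  by_contra hgn
  obtain ⟨r, hr⟩ : ∃ r, Q r ≠ 0 := by
    by_contra hex
    push Not at hex
    obtain ⟨i⟩ := Fintype.card_pos_iff.1 (show 0 < Fintype.card ι by omega)
    have := hQ.1 (Pi.single i 1) fun z => by simp [QuadraticMap.polar, hex]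
    exact one_ne_zero (α := F) (by simpa using congrFun this i)
  have hpr : par (reflect Q r) = -1 := by
    have h1 := par_reflect_mul hQ hr (1 : Iso)
    rwa [mul_one, par_one] at h1
  have hrn : reflect Q r ∉ Cfsg.Omega F ⇑Q := fun hm => by
    have : par (reflect Q r) = 1 := Abelianization.commutator_subset_ker φ hm
    rw [hpr] at this
    exact absurd this (by decide)
  have hmem := (Subgroup.mul_mem_iff_of_index_two (SpecialOrth.omega_index_two hQ h (by omega))).2
    (iff_of_false hrn hgn)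
  have : par (reflect Q r * g) = 1 := Abelianization.commutator_subset_ker φ hmem
  rw [par_reflect_mul hQ hr, hg] at this
  exact absurd this (by decide)

theorem par_eq_rank (g : Iso) : par g = (-1) ^ (mat g - 1).rank := by
  have h1 : (mat g - 1).rank = Module.finrank F ↥(imSp g) := by
    rw [← range_sub_one, Matrix.rank, Matrix.toLin'_apply']
  have h2 := finrank_imSp hQ g
  rw [par, h1, ← h2, ← add_assoc, pow_add, pow_add, mul_right_comm, Int.units_mul_self, one_mul]

theorem mem_omega_iff_rank [CharP F 2] (hn : 5 ≤ Fintype.card ι) (g : Iso) :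
    g ∈ Cfsg.Omega F ⇑Q ↔ Even (mat g - 1).rank := by
  rw [mem_omega_iff_par hQ (Or.inr hn), par_eq_rank hQ, neg_one_pow_eq_one_iff_even (by decide)]

/-- with an anisotropic fixed vector the class does not split -/
theorem exists_omega_conj [CharP F 2] (hn : 5 ≤ Fintype.card ι) {t s : Iso} (hconj : IsConj t s)
    (hv : ∃ v, act t v = v ∧ Q v ≠ 0) : ∃ g ∈ Cfsg.Omega F ⇑Q, g * t * g⁻¹ = s := by
  obtain ⟨g, hg⟩ := isConj_iff.1 hconj
  rcases Int.units_eq_one_or (par g) with hp | hp
  · exact ⟨g, (mem_omega_iff_par hQ (Or.inr hn) g).2 hp, hg⟩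
  obtain ⟨v, htv, hQv⟩ := hv
  have hcomm : reflect Q v * t * (reflect Q v)⁻¹ = t := by
    rw [mul_inv_eq_iff_eq_mul]
    refine iso_ext fun x => ?_
    rw [← act_apply, ← act_apply, act_mul, act_mul, act_reflect, act_reflect, map_sub, map_smul, htv]
    congr 3
    conv_lhs => rw [← htv]
    exact act_polar t v x
  refine ⟨g * reflect Q v, (mem_omega_iff_par hQ (Or.inr hn) _).2 ?_, ?_⟩
  · rw [par_mul_all hQ (Or.inr (by omega)), hp]
    have h1 := par_reflect_mul hQ hQv (1 : Iso)
    rw [mul_one, par_one] at h1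
    rw [h1]; rfl
  · rw [_root_.mul_inv_rev, show g * reflect Q v * t * ((reflect Q v)⁻¹ * g⁻¹) =
      g * (reflect Q v * t * (reflect Q v)⁻¹) * g⁻¹ by group, hcomm, hg]

/-- without one, the image is a maximal totally singular subspace -/
theorem singular_of_no_fixed [CharP F 2] {m : ℕ} (hm : Fintype.card ι = 2 * m) {t : Iso}
    (ht : orderOf t = 2) (hv : ∀ v, act t v = v → Q v = 0) :
    (mat t - 1).rank = m ∧ (∀ v, Q (v + mat t *ᵥ v) = 0) ∧
      Module.finrank F ↥(fixSp t) = m ∧ ∀ x ∈ fixSp t, Q x = 0 := by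
  have hsing : ∀ x ∈ fixSp t, Q x = 0 := fun x hx => hv x (mem_fixSp.1 hx)
  have hd := Max.Orth.finrank_sing_le hQ hsing
  have hle : imSp t ≤ fixSp t := by
    rintro _ ⟨x, rfl⟩
    refine mem_fixSp.2 ?_
    have h := sub_one_sq (CharTwo.two_eq_zero) (mat_sq ht) x
    rw [Matrix.toLin'_apply, Matrix.toLin'_apply, Matrix.sub_mulVec, Matrix.one_mulVec, sub_eq_zero] at h
    rw [act_apply, LinearMap.sub_apply, LinearMap.id_apply, act_apply]
    rw [Matrix.sub_mulVec, Matrix.one_mulVec] at h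
    exact h
  have h3 := Submodule.finrank_mono hle
  have h4 := finrank_imSp hQ t
  have hf : Module.finrank F ↥(fixSp t) = m := by omega
  refine ⟨?_, fun v => ?_, hf, hsing⟩
  · have h1 : (mat t - 1).rank = Module.finrank F ↥(imSp t) := by
      rw [← range_sub_one, Matrix.rank, Matrix.toLin'_apply']
    omega
  · refine hsing _ (hle ⟨v, ?_⟩)
    rw [LinearMap.sub_apply, LinearMap.id_apply, act_apply, sub_eq_add_neg, add_comm]
    congr 1
    exact funext fun i => CharTwo.neg_eq (v i)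

/-- in the split case the classes are told apart by the parity of the intersection of the images -/
theorem omega_conj_iff_inter [CharP F 2] (hn : 5 ≤ Fintype.card ι) {m : ℕ}
    (hm : Fintype.card ι = 2 * m) {t s : Iso} (htΩ : t ∈ Cfsg.Omega F ⇑Q) (hconj : IsConj t s)
    (hr : (mat t - 1).rank = m) (h0 : ∀ v, Q (v + mat t *ᵥ v) = 0) :
    (∃ g ∈ Cfsg.Omega F ⇑Q, g * t * g⁻¹ = s) ↔
      Even (Module.finrank F ↥(imSp t ⊓ imSp s)) := by
  have hU : ∀ x ∈ imSp t, Q x = 0 := by
    rintro _ ⟨v, rfl⟩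
    rw [LinearMap.sub_apply, LinearMap.id_apply, act_apply, sub_eq_add_neg, add_comm]
    rw [show -v = v from funext fun i => CharTwo.neg_eq (v i)]
    exact h0 v
  have hd : Module.finrank F ↥(imSp t) = m := by
    rw [← hr, ← range_sub_one, Matrix.rank, Matrix.toLin'_apply']
  have hmeven : Even m := hr ▸ (mem_omega_iff_rank hQ hn t).1 htΩ
  have himg : ∀ g : Iso, g * t * g⁻¹ = s → (imSp t).map (act g) = imSp s := by
    intro g hg
    have hgs : g * t = s * g := mul_inv_eq_iff_eq_mul.1 hg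
    have e : ∀ v, act g (act t v) = act s (act g v) := fun v => by rw [← act_mul, hgs, act_mul]
    ext w
    constructor
    · rintro ⟨_, ⟨v, rfl⟩, rfl⟩
      exact ⟨act g v, by simp [e]⟩
    · rintro ⟨v, rfl⟩
      refine ⟨(act t - LinearMap.id : (ι → F) →ₗ[F] ι → F) (act g⁻¹ v), ⟨_, rfl⟩, ?_⟩
      have hcancel : act g (act g⁻¹ v) = v := by rw [← act_mul, mul_inv_cancel, act_one]
      simp [e, hcancel]
  constructor
  · rintro ⟨g, hg, hgc⟩
    have h1 := Max.Orth.par_eq_inter hQ hU hd hm g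
      (refGroup_eq_top hQ (Or.inr (by omega)) ▸ Subgroup.mem_top g)
    rw [(mem_omega_iff_par hQ (Or.inr hn) g).1 hg, himg g hgc,
      (neg_one_pow_eq_one_iff_even (by decide)).2 hmeven, one_mul, eq_comm,
      neg_one_pow_eq_one_iff_even (by decide)] at h1
    exact h1
  · intro he
    obtain ⟨g, hg⟩ := isConj_iff.1 hconj
    refine ⟨g, (mem_omega_iff_par hQ (Or.inr hn) g).2 ?_, hg⟩
    have h1 := Max.Orth.par_eq_inter hQ hU hd hm g
      (refGroup_eq_top hQ (Or.inr (by omega)) ▸ Subgroup.mem_top g)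
    rw [himg g hg, (neg_one_pow_eq_one_iff_even (by decide)).2 hmeven,
      (neg_one_pow_eq_one_iff_even (by decide)).2 he, mul_one] at h1
    exact h1

end Cfsg.Agent.Forms.Invol
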