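import Mathlib
import Cfsg.Agent.Lib.Forms.Invol.Basic

/-!
# Conjugacy in the general linear group and determinants in the centraliser
-/

set_option autoImplicit false
set_option linter.unusedSectionVars false

namespace Cfsg.Agent.Forms.Invol

open Module

variable {F V : Type*} [Field F] [AddCommGroup V] [Module F V] [FiniteDimensional F V]
variable {N N' : V →ₗ[F] V}

/-- maps with square zero and equal rank are conjugate -/
theorem exists_linear_conj (hN : ∀ v, N (N v) = 0) (hN' : ∀ v, N' (N' v) = 0)
    (hr : finrank F (LinearMap.range N) = finrank F (LinearMap.range N')) :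
    ∃ g : V ≃ₗ[F] V, ∀ v, g (N v) = N' (g v) := by
  obtain ⟨s, hs⟩ := N.rangeRestrict.exists_rightInverse_of_surjective N.range_rangeRestrict
  obtain ⟨s', hs'⟩ := N'.rangeRestrict.exists_rightInverse_of_surjective N'.range_rangeRestrict
  have hsN : ∀ w, N (s w) = w := fun w => congrArg Subtype.val (LinearMap.congr_fun hs w)
  have hsN' : ∀ w, N' (s' w) = w := fun w => congrArg Subtype.val (LinearMap.congr_fun hs' w)
  let R := LinearMap.range N.rangeRestrict
  -- the ranges inside the kernels
  let k : V →ₗ[F] LinearMap.ker N := (LinearMap.id - s ∘ₗ N.rangeRestrict).codRestrict _ fun v => by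
    rw [LinearMap.mem_ker, LinearMap.sub_apply, map_sub, LinearMap.comp_apply, hsN, LinearMap.id_apply]
    exact sub_self _
  let i : LinearMap.range N →ₗ[F] LinearMap.ker N := (LinearMap.range N).subtype.codRestrict _ fun w => by
    obtain ⟨u, hu⟩ := w.2
    rw [LinearMap.mem_ker, Submodule.subtype_apply, ← hu, hN]
  let i' : LinearMap.range N' →ₗ[F] LinearMap.ker N' :=
    (LinearMap.range N').subtype.codRestrict _ fun w => by
      obtain ⟨u, hu⟩ := w.2
      rw [LinearMap.mem_ker, Submodule.subtype_apply, ← hu, hN']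
  obtain ⟨K, hK⟩ := exists_isCompl (LinearMap.range i)
  obtain ⟨K', hK'⟩ := exists_isCompl (LinearMap.range i')
  have hi : Function.Injective i := fun a b h => Subtype.ext (congrArg Subtype.val h :)
  have hi' : Function.Injective i' := fun a b h => Subtype.ext (congrArg Subtype.val h :)
  let φ : LinearMap.range N ≃ₗ[F] LinearMap.range N' := LinearEquiv.ofFinrankEq _ _ hr
  have hKK : finrank F K = finrank F K' := by
    have h1 := Submodule.finrank_add_eq_of_isCompl hK
    have h3 := Submodule.finrank_add_eq_of_isCompl hK'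
    have e1 := N.finrank_range_add_finrank_ker
    have e3 := N'.finrank_range_add_finrank_ker
    rw [LinearMap.finrank_range_of_inj hi] at h1
    rw [LinearMap.finrank_range_of_inj hi'] at h3
    omega
  let ψ : K ≃ₗ[F] K' := LinearEquiv.ofFinrankEq _ _ hKK
  -- the map on the kernel
  let θ : LinearMap.ker N ≃ₗ[F] LinearMap.ker N' :=
    (Submodule.prodEquivOfIsCompl _ _ hK).symm.trans
      ((((LinearEquiv.ofInjective i hi).symm.trans (φ.trans (LinearEquiv.ofInjective i' hi'))).prodCongr ψ).trans
        (Submodule.prodEquivOfIsCompl _ _ hK'))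
  have hθ : ∀ w, θ (i w) = i' (φ w) := fun w => by
    have e : (Submodule.prodEquivOfIsCompl _ _ hK).symm (i w) = (LinearEquiv.ofInjective i hi w, 0) := by
      rw [LinearEquiv.symm_apply_eq]
      simp [Submodule.coe_prodEquivOfIsCompl']
    simp [θ, e, Submodule.coe_prodEquivOfIsCompl']
  let g₀ : V →ₗ[F] V :=
    s' ∘ₗ φ.toLinearMap ∘ₗ N.rangeRestrict + (LinearMap.ker N').subtype ∘ₗ θ.toLinearMap ∘ₗ k
  have hg₀ : ∀ v, g₀ v = s' (φ (N.rangeRestrict v)) + (θ (k v) : V) := fun v => rfl
  have hNg : ∀ v, N' (g₀ v) = φ (N.rangeRestrict v) := fun v => by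
    rw [hg₀, map_add, hsN', LinearMap.mem_ker.1 (θ (k v)).2, add_zero]
  have hinj : Function.Injective g₀ := (injective_iff_map_eq_zero g₀).2 fun v hv => by
    have h1 := hNg v
    rw [hv, map_zero] at h1
    have h3 : N.rangeRestrict v = 0 := φ.injective (Subtype.ext (by rw [map_zero]; exact h1.symm))
    rw [hg₀, h3, map_zero, map_zero, zero_add] at hv
    have h4 : k v = 0 := θ.injective (Subtype.ext (by rw [map_zero]; exact hv))
    have h5 := congrArg Subtype.val h4
    simpa [k, h3] using h5
  refine ⟨LinearEquiv.ofInjectiveEndo g₀ hinj, fun v => ?_⟩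
  show g₀ (N v) = N' (g₀ v)
  rw [hNg, hg₀, show N.rangeRestrict (N v) = 0 from Subtype.ext (hN v), map_zero, map_zero, zero_add,
    show k (N v) = i (N.rangeRestrict v) from Subtype.ext (by
      show N v - s (N.rangeRestrict (N v)) = N v
      rw [show N.rangeRestrict (N v) = 0 from Subtype.ext (hN v), map_zero, sub_zero]), hθ]
  rfl

/-- the pair of transvection-like maps at `x`, `N x` -/
noncomputable def scaleEnd (μ : F) (α β : Dual F V) (x y : V) : V →ₗ[F] V :=
  LinearMap.transvection α ((μ - 1) • x) ∘ₗ LinearMap.transvection β ((μ - 1) • y)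

theorem scaleEnd_det (μ : F) {α β : Dual F V} {x y : V} (hαx : α x = 1) (hβy : β y = 1) :
    LinearMap.det (scaleEnd μ α β x y) = μ * μ := by
  rw [scaleEnd, LinearMap.det_comp, LinearMap.transvection.det, LinearMap.transvection.det, map_smul,
    map_smul, hαx, hβy]
  simp

theorem scaleEnd_apply (μ : F) {α β : Dual F V} {x y : V} (hαy : α y = 0) (v : V) :
    scaleEnd μ α β x y v = v + (α v * (μ - 1)) • x + (β v * (μ - 1)) • y := by
  simp only [scaleEnd, LinearMap.comp_apply, LinearMap.transvection.apply, map_add, map_smul, hαy,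
    zero_mul, zero_smul, smul_zero, add_zero, smul_smul]

theorem scaleEnd_comm (μ : F) {α β : Dual F V} {x y : V} (hy : N x = y) (hNy : N y = 0)
    (hαy : α y = 0) (hαN : ∀ v, α (N v) = 0) (hβN : ∀ v, β (N v) = α v) (v : V) :
    scaleEnd μ α β x y (N v) = N (scaleEnd μ α β x y v) := by
  rw [scaleEnd_apply μ hαy, scaleEnd_apply μ hαy, map_add, map_add, map_smul, map_smul, hy, hNy, hαN,
    hβN, smul_zero, zero_mul, zero_smul, add_zero, add_zero]

/-- functionals for scaling in the linear case -/
theorem exists_scale (hN : ∀ v, N (N v) = 0) (hne : N ≠ 0) :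
    ∃ (x : V) (α β : Dual F V), α x = 1 ∧ β (N x) = 1 ∧ α (N x) = 0 ∧ (∀ v, α (N v) = 0) ∧
      ∀ v, β (N v) = α v := by
  obtain ⟨x, hx⟩ : ∃ x, N x ≠ 0 := by
    by_contra hc
    push Not at hc
    exact hne (LinearMap.ext hc)
  obtain ⟨e, he⟩ : ∃ e : Dual F V, e (N x) = 1 := by
    obtain ⟨e, he, -⟩ := Submodule.exists_le_ker_of_notMem (p := (⊥ : Submodule F V)) (v := N x)
      (by simpa using hx)
    exact ⟨(e (N x))⁻¹ • e, by simp [he]⟩
  refine ⟨x, e ∘ₗ N, e, by simp [he], he, by simp [hN], fun v => by simp [hN], fun v => rfl⟩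

end Cfsg.Agent.Forms.Invol
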