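import Mathlib
import Cfsg.Agent.Lib.Forms.Invol.Orth
import Cfsg.Agent.Lib.Forms.Invol.Linear
import Cfsg.Agent.Lib.Forms.SympStd
import Cfsg.Agent.Lib.Forms.HermStd

/-!
# Involutions of `SL`, `SU` and `Sp` in characteristic two
-/

set_option autoImplicit false
set_option linter.unusedSectionVars false

namespace Cfsg.Agent.Forms.Invol

open Matrix Module

variable {F : Type*} [Field F] {ι : Type} [Fintype ι] [DecidableEq ι]

theorem rank_sub_one (A : Matrix ι ι F) :
    (A - 1).rank = finrank F (LinearMap.range (Matrix.toLin' (A - 1))) := by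
  rw [Matrix.rank, Matrix.toLin'_apply']

theorem intertwine_of_mul {C A A' : Matrix ι ι F} (h : C * A = A' * C) (v : ι → F) :
    C *ᵥ Matrix.toLin' (A - 1) v = Matrix.toLin' (A' - 1) (C *ᵥ v) := by
  simp only [Matrix.toLin'_apply, Matrix.mulVec_mulVec, mul_sub, sub_mul, mul_one, one_mul, h]

theorem mul_of_intertwine {A A' : Matrix ι ι F} (g : (ι → F) →ₗ[F] (ι → F))
    (h : ∀ v, g (Matrix.toLin' (A - 1) v) = Matrix.toLin' (A' - 1) (g v)) :
    LinearMap.toMatrix' g * A = A' * LinearMap.toMatrix' g := by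
  have e : ∀ v, LinearMap.toMatrix' g *ᵥ v = g v := fun v => by
    rw [← Matrix.toLin'_apply, Matrix.toLin'_toMatrix']
  refine Matrix.ext_iff_mulVec.2 fun v => ?_
  rw [← Matrix.mulVec_mulVec, ← Matrix.mulVec_mulVec, e, e]
  have := h v
  simpa [Matrix.toLin'_apply, Matrix.sub_mulVec, map_sub] using this

/-- scaling along a frame vector is an isometry for a scalar of norm one -/
theorem scaleEnd_form {V : Type*} [AddCommGroup V] [Module F V] [FiniteDimensional F V] {σ : F →+* F}
    {B : V →ₛₗ[σ] V →ₗ[F] F} (hsym : ∀ u v, σ (B u v) = B v u) {x y : V} (hxx : B x x = 0)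
    (hyy : B y y = 0) (hyx : B y x = 1) {μ : F} (hμ : σ μ * μ = 1) (u v : V) :
    B (scaleEnd μ (B y) (B x) x y u) (scaleEnd μ (B y) (B x) x y v) = B u v := by
  have hxy : B x y = 1 := by rw [← hsym, hyx, map_one]
  rw [scaleEnd_apply μ (show B y y = 0 from hyy), scaleEnd_apply μ (show B y y = 0 from hyy)]
  simp only [map_add, LinearMap.add_apply, LinearMap.map_smulₛₗ, LinearMap.smul_apply,
    RingHom.id_apply, smul_eq_mul, hxx, hyy, hxy, hyx, ← hsym x u, ← hsym y u, map_mul, map_sub,
    map_one]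
  linear_combination (σ (B y u) * B x v + σ (B x u) * B y v) * hμ

end Cfsg.Agent.Forms.Invol
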